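import Cfsg.Agent.OddFocal.Quad
import Cfsg.Agent.Lib.Thompson.Block.Main

/-!
A `p`-minimal group with a block structure has an element outside `O_p` which is quadratic on all
chief factors below `O_p`, for odd `p`.
-/

set_option autoImplicit false
set_option linter.unusedSectionVars false

open Subgroup Cfsg
open scoped commutatorElement MatrixGroups

namespace Cfsg.Agent.OddFocal

open ConjFunctor LAE65

variable {p : ℕ} {G : Type*} [Group G] [Finite G] [hp : Fact p.Prime]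

theorem commutatorElement_mem_of_nrm {A : Subgroup G} {a u : G} (ha : a ∈ A) (hu : u ∈ nrm A) :
    ⁅a, u⁆ ∈ A := by
  have e : ⁅a, u⁆ = a * (u * a⁻¹ * u⁻¹) := by rw [commutatorElement_def]; group
  rw [e]; exact A.mul_mem ha (conj_mem_of_nrm hu (A.inv_mem ha))

theorem commutator_iSup_le {ι κ : Sort*} (A : ι → Subgroup G) (B : κ → Subgroup G) (Y : Subgroup G)
    [Y.Normal] (h : ∀ i j, ⁅A i, B j⁆ ≤ Y) : ⁅⨆ i, A i, ⨆ j, B j⁆ ≤ Y := by
  rw [← QuotientGroup.ker_mk' Y, ← Subgroup.map_eq_bot_iff, map_commutator, Subgroup.map_iSup,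
    Subgroup.map_iSup, commutator_eq_bot_iff_le_centralizer]
  refine iSup_le fun i => le_centralizer_iff.1 (iSup_le fun j => le_centralizer_iff.1 ?_)
  rw [← commutator_eq_bot_iff_le_centralizer, ← map_commutator, Subgroup.map_eq_bot_iff,
    QuotientGroup.ker_mk']
  exact h i j

theorem iSup_normal {𝓑 : Set (Subgroup G)}
    (hconj : ∀ E ∈ 𝓑, ∀ g : G, E.map (MulAut.conj g).toMonoidHom ∈ 𝓑)
    (f : Subgroup G → Subgroup G)
    (hf : ∀ (H : Subgroup G) (g : G),
      (f H).map (MulAut.conj g).toMonoidHom = f (H.map (MulAut.conj g).toMonoidHom)) :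
    (⨆ E : 𝓑, f E).Normal := by
  refine ⟨fun x hx g => ?_⟩
  have h1 : (⨆ E : 𝓑, f E).map (MulAut.conj g).toMonoidHom ≤ ⨆ E : 𝓑, f E := by
    rw [Subgroup.map_iSup]
    exact iSup_le fun E => (hf E g).le.trans
      (le_iSup (fun E : 𝓑 => f E) ⟨_, hconj E E.2 g⟩)
  exact h1 ⟨x, hx, rfl⟩

/-- `Ω₁(Z(O_p(E)))`. -/
abbrev wE (p : ℕ) (E : Subgroup G) : Subgroup G := omegaOneCenter p (pCoreOf p E)

/-- The centralizer of `E` in `Ω₁(Z(O_p(E)))`. -/
abbrev zE (p : ℕ) (E : Subgroup G) : Subgroup G := wE p E ⊓ centralizer (E : Set G)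

theorem wE_map (E : Subgroup G) (g : G) : (wE p E).map (MulAut.conj g).toMonoidHom =
    wE p (E.map (MulAut.conj g).toMonoidHom) := by
  rw [wE, Normal.omegaOneCenter_map, Normal.pCoreOf_map']

theorem zE_map (E : Subgroup G) (g : G) : (zE p E).map (MulAut.conj g).toMonoidHom =
    zE p (E.map (MulAut.conj g).toMonoidHom) := by
  rw [zE, map_inf _ _ _ (MulAut.conj g).injective, wE_map, Normal.centralizer_map]

theorem wE_le (E : Subgroup G) : wE p E ≤ E :=
  (Block.omegaOneCenter_le _).trans (Pair.core_le E)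

theorem wE_comm (E : Subgroup G) : ⁅wE p E, wE p E⁆ = ⊥ :=
  commutator_eq_bot_iff_le_centralizer.2
    ((Block.omegaOneCenter_le_centralizer _).trans (centralizer_le (Block.omegaOneCenter_le _)))

theorem mem_nrm_map {f : Subgroup G → Subgroup G}
    (hf : ∀ (H : Subgroup G) (g : G),
      (f H).map (MulAut.conj g).toMonoidHom = f (H.map (MulAut.conj g).toMonoidHom))
    {E : Subgroup G} {u : G} (hu : u ∈ nrm E) : u ∈ nrm (f E) := by
  rw [mem_nrm_iff_cnj] at hu ⊢
  rw [cnj, hf, show E.map (MulAut.conj u).toMonoidHom = E from hu]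

/-- A special linear group over a field with at least four elements has an element of order `p`
in its derived group. -/
theorem dvd_card_commutator_SL {F : Type} [Field F] [Fintype F] {n : ℕ}
    (hF : Fintype.card F = p ^ n) (h4 : 4 ≤ Fintype.card F) :
    p ∣ Nat.card ↥(commutator SL(2, F)) := by
  classical
  haveI : CharP F p := charP_of_card_eq_prime_pow hF
  have hex : Fintype.card (Fin 2) = 2 → ∃ a : F, a ≠ 0 ∧ a ^ 2 ≠ 1 := fun _ => by
    by_contra hcon
    push Not at hcon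
    have hsub : (Finset.univ : Finset F) ⊆ {0, 1, -1} := fun a _ => by
      by_cases ha : a = 0
      · simp [ha]
      · rcases sq_eq_one_iff.1 (hcon a ha) with rfl | rfl <;> simp
    have := Finset.card_le_card hsub
    have h3 : ({0, 1, -1} : Finset F).card ≤ 3 := Finset.card_le_three
    rw [Finset.card_univ] at this
    omega
  let x : SL(2, F) := ⟨!![1, 1; 0, 1], by simp [Matrix.det_fin_two]⟩
  have hxp : x ^ p = 1 := by
    apply Subtype.ext
    rw [Matrix.SpecialLinearGroup.coe_pow, Matrix.SpecialLinearGroup.coe_one]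
    have hN : ((x : Matrix (Fin 2) (Fin 2) F) - 1) ^ 2 = 0 := by
      ext i j; fin_cases i <;> fin_cases j <;> simp [x, sq, Matrix.mul_apply, Fin.sum_univ_two]
    have h0 := pow_eq_zero_of_le hp.out.two_le hN
    rw [sub_pow_char_of_commute (p := p) (Commute.one_right _), one_pow, sub_eq_zero] at h0
    exact h0
  have hx1 : x ≠ 1 := fun e => by
    have := congrArg (fun z : SL(2, F) => (z : Matrix (Fin 2) (Fin 2) F) 0 1) e
    simp [x] at this
  have hmem : x ∈ commutator SL(2, F) := by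
    rw [LinearGroup.commutator_SL_eq_top' hex]; exact mem_top x
  have := orderOf_dvd_natCard (G := ↥(commutator SL(2, F))) ⟨x, hmem⟩
  rwa [Subgroup.orderOf_mk, orderOf_eq_prime hxp hx1] at this

variable {S : Sylow p G} {E : Subgroup G}
  (hG : centralizer (pCore p G : Set G) ≤ pCore p G)
  (hE : IsBaumannBlock p (S : Subgroup G) E)

include hG hE in
theorem core_comm_le (h2 : p ≠ 2) : ⁅pCoreOf p E, pCoreOf p E⁆ ≤ wE p E := by
  rcases hE.2.2.2.2 with ⟨F, _, _, n, -, -, -, hq | ⟨-, -, hder, -⟩⟩ | ⟨h, -⟩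
  · rw [hq]
    exact (wE_comm E).le.trans bot_le
  · exact hder.le.trans inf_le_left
  · exact absurd h h2

include hG hE in
/-- A `p`-element of a block is quadratic on its sections. -/
theorem quad_inner (h2 : p ≠ 2) {u : G} (hu : u ∈ E) {k : ℕ} (huk : u ^ p ^ k = 1) :
    (∀ a ∈ pCoreOf p E, ⁅⁅a, u⁆, u⁆ ∈ wE p E) ∧ ∀ a ∈ wE p E, ⁅⁅a, u⁆, u⁆ ∈ zE p E := by
  have huW : u ∈ nrm (wE p E) := Pair.le_normalizer_omega_core E hu
  rcases hE.2.2.2.2 with ⟨F, _, _, n, hn, -, hact, hq | ⟨-, hactQ, -⟩⟩ | ⟨h, -⟩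
  · refine ⟨fun a ha => ?_, fun a ha => quad_sl2 hn hact hu huk ha⟩
    rw [hq] at ha
    exact commutatorElement_mem_of_nrm (commutatorElement_mem_of_nrm ha huW) huW
  · exact ⟨fun a ha => quad_sl2 hn hactQ hu huk ha, fun a ha => quad_sl2 hn hact hu huk ha⟩
  · exact absurd h h2

include hG hE in
/-- A `p`-element normalizing a block with `p'`-quotient is quadratic on its sections. -/
theorem quad_outer (h2 : p ≠ 2) (hcop : ¬ p ∣ (pCoreOf p E).relIndex E) {u : G} (hu : u ∈ nrm E)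
    {k : ℕ} (huk : u ^ p ^ k = 1) :
    (∀ a ∈ pCoreOf p E, ⁅⁅a, u⁆, u⁆ ∈ wE p E) ∧ ∀ a ∈ wE p E, ⁅⁅a, u⁆, u⁆ ∈ zE p E := by
  have huW : u ∈ nrm (wE p E) := mem_nrm_map wE_map hu
  have huQ : u ∈ nrm (pCoreOf p E) :=
    mem_nrm_map (f := pCoreOf p) (fun H g => Normal.pCoreOf_map' H _) hu
  have huZ : u ∈ nrm (zE p E) := mem_nrm_map zE_map hu
  rcases hE.2.2.2.2 with ⟨F, _, _, n, hn, hiso, hact, halt⟩ | ⟨h, -⟩
  swap
  · exact absurd h h2
  have hlt : Fintype.card F < 4 := by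
    by_contra hle
    obtain ⟨iso⟩ := hiso
    refine hcop ?_
    rw [Subgroup.relIndex, pCoreOf, subgroupOf,
      comap_map_eq_self_of_injective E.subtype_injective, index_eq_card,
      Nat.card_congr iso.toEquiv]
    exact dvd_card_commutator_SL hn (not_lt.1 hle)
  have h1 : 1 < Fintype.card F := Fintype.one_lt_card
  have hn0 : n ≠ 0 := fun h => by rw [h, pow_zero] at hn; omega
  have hpF : p ≤ Fintype.card F := hn ▸ Nat.le_self_pow hn0 p
  have h3 : p = 3 := by have := hp.out.two_le; omega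
  have hFp : Fintype.card F = p := by
    have hdvd : p ∣ Fintype.card F := hn ▸ dvd_pow_self p hn0
    subst h3; omega
  obtain ⟨sW⟩ := Pair.nonempty_sec_of_sl2 hE hFp (Or.inr h3) hiso hact
    fun q hq w hw => Pair.triv_omega hE hq hw _
  have huk' : u ^ 3 ^ k = 1 := h3 ▸ huk
  refine ⟨fun a ha => ?_, fun a ha => sW.quadratic h3 huW huZ huk' ha⟩
  rcases halt with hq | ⟨-, hactQ, hder, -⟩
  · rw [hq] at ha
    exact commutatorElement_mem_of_nrm (commutatorElement_mem_of_nrm ha huW) huW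
  · obtain ⟨sQ⟩ := Pair.nonempty_sec_of_sl2 hE hFp (Or.inr h3) hiso hactQ fun q hq w hw => by
      have := (hder.le.trans inf_le_left) (commutator_mem_commutator hq hw)
      rwa [commutatorElement_def] at this
    exact sQ.quadratic h3 huQ huW huk' ha

omit E hG hE in
/-- The element used against minimal failures of control of transfer. -/
theorem exists_quad (h2 : p ≠ 2) (hmin : IsPMinimal p G)
    (hG : centralizer (pCore p G : Set G) ≤ pCore p G) (S : Sylow p G)
    (hchar : ∀ C : Subgroup G, C ≤ baumannSubgroupOf p (S : Subgroup G) → C ≠ ⊥ →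
      (C.subgroupOf (baumannSubgroupOf p (S : Subgroup G))).Characteristic → ¬ C.Normal)
    (hz : ¬ (omegaOneCenter p (S : Subgroup G)).Normal) :
    ∃ u ∈ (S : Subgroup G), u ∉ pCore p G ∧ ∀ U V : Subgroup G, IsChiefFactor U V →
      U ≤ pCore p G → iterCommutator U (zpowers u) (p - 1) ≤ V := by
  obtain ⟨M, q, h⟩ := Block82.exists_ctx hmin hG S hchar hz
  set 𝓑 := Block82.blockSet S q
  set X := sSup 𝓑 with hX
  set Q₀ := pCore p G
  haveI hXn : X.Normal := h.normal_sSup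
  have hXS : X ⊔ (S : Subgroup G) = ⊤ := h.sup_T
  have hb : ∀ E ∈ 𝓑, IsBaumannBlock p (S : Subgroup G) E := fun E hE => (h.blockSet_block hE).1
  have hs : ∀ E ∈ 𝓑, E.IsSubnormal := fun E hE => (h.blockSet_block hE).2
  have hcomm : ∀ E E' : 𝓑, E ≠ E' → ⁅(E : Subgroup G), (E' : Subgroup G)⁆ = ⊥ := fun E E' hne =>
    h.comm_of_ne E.2 E'.2 fun e => hne (Subtype.ext e)
  have hcore : ∀ E ∈ 𝓑, E ⊓ Q₀ = pCoreOf p E := fun E hE => Pair.core_eq_inf (hs E hE)
  have hXi : X = ⨆ E : 𝓑, (E : Subgroup G) := by rw [hX, sSup_eq_iSup']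
  haveI hQn : (⨆ E : 𝓑, pCoreOf p (E : Subgroup G)).Normal :=
    iSup_normal (fun E hE g => h.conj_mem hE g) (pCoreOf p) fun H g => Normal.pCoreOf_map' H _
  haveI hWn : (⨆ E : 𝓑, wE p (E : Subgroup G)).Normal :=
    iSup_normal (fun E hE g => h.conj_mem hE g) (wE p) wE_map
  haveI hZn : (⨆ E : 𝓑, zE p (E : Subgroup G)).Normal :=
    iSup_normal (fun E hE g => h.conj_mem hE g) (zE p) zE_map
  have hWW : ⁅⨆ E : 𝓑, wE p (E : Subgroup G), ⨆ E : 𝓑, wE p (E : Subgroup G)⁆ ≤
      ⨆ E : 𝓑, zE p (E : Subgroup G) := by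
    refine commutator_iSup_le _ _ _ fun E E' => ?_
    rcases eq_or_ne E E' with rfl | hne
    · exact (wE_comm _).le.trans bot_le
    · exact (commutator_mono (wE_le _) (wE_le _)).trans ((hcomm E E' hne).le.trans bot_le)
  have hQQ : ⁅⨆ E : 𝓑, pCoreOf p (E : Subgroup G), ⨆ E : 𝓑, pCoreOf p (E : Subgroup G)⁆ ≤
      ⨆ E : 𝓑, wE p (E : Subgroup G) := by
    refine commutator_iSup_le _ _ _ fun E E' => ?_
    rcases eq_or_ne E E' with rfl | hne
    · exact (core_comm_le hG (hb E E.2) h2).trans (le_iSup (fun E : 𝓑 => wE p (E : Subgroup G)) E)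
    · exact (commutator_mono (Pair.core_le _) (Pair.core_le _)).trans
        ((hcomm E E' hne).le.trans bot_le)
  have hQX : ⁅Q₀, X⁆ ≤ ⨆ E : 𝓑, pCoreOf p (E : Subgroup G) := by
    conv_lhs => rw [← iSup_const (ι := Unit) (a := Q₀), hXi]
    refine commutator_iSup_le _ _ _ fun _ E => le_trans ?_
      (le_iSup (fun E : 𝓑 => pCoreOf p (E : Subgroup G)) E)
    rw [← hcore E E.2]
    refine le_inf ?_ (commutator_le_left _ _)
    rw [commutator_comm]
    exact le_normalizer_iff_commutator_le_left.1 (Block.core_le_normalizer (hb E E.2))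
  have hZX : ⁅⨆ E : 𝓑, zE p (E : Subgroup G), X⁆ = ⊥ := by
    rw [eq_bot_iff, hXi]
    refine commutator_iSup_le _ _ _ fun E E' => ?_
    rcases eq_or_ne E E' with rfl | hne
    · exact (commutator_eq_bot_iff_le_centralizer.2 inf_le_right).le
    · exact (commutator_mono (inf_le_left.trans (wE_le _)) le_rfl).trans (hcomm E E' hne).le
  have hp3 : 3 ≤ p := by have := hp.out.two_le; omega
  -- an element with quadratic action on every block
  suffices hu : ∃ u ∈ (S : Subgroup G), u ∉ Q₀ ∧ ∀ E : 𝓑, u ∈ nrm (E : Subgroup G) ∧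
      (∀ a ∈ pCoreOf p (E : Subgroup G), ⁅⁅a, u⁆, u⁆ ∈ wE p (E : Subgroup G)) ∧
      ∀ a ∈ wE p (E : Subgroup G), ⁅⁅a, u⁆, u⁆ ∈ zE p (E : Subgroup G) by
    obtain ⟨u, huS, huQ, hu⟩ := hu
    refine ⟨u, huS, huQ, fun U V hUV hU => chief_quad
      (Ws := ⨆ E : 𝓑, wE p (E : Subgroup G)) S.isPGroup' hXS Thompson.isPGroup_pCore hQX
      hZX ?_ ?_ hUV hU (by omega)⟩
    · refine quad_iSup (fun E : 𝓑 => pCoreOf p (E : Subgroup G)) rfl
        (iSup_mono fun E => Block.omegaOneCenter_le _) hQQ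
        (by rw [nrm_eq_top]; exact mem_top u)
        (fun E => mem_nrm_map (f := pCoreOf p) (fun H g => Normal.pCoreOf_map' H _) (hu E).1)
        fun E a ha => le_iSup (fun E : 𝓑 => wE p (E : Subgroup G)) E ((hu E).2.1 a ha)
    · refine quad_iSup (fun E : 𝓑 => wE p (E : Subgroup G)) rfl
        (iSup_mono fun E => inf_le_left) hWW
        (by rw [nrm_eq_top]; exact mem_top u) (fun E => mem_nrm_map wE_map (hu E).1)
        fun E a ha => le_iSup (fun E : 𝓑 => zE p (E : Subgroup G)) E ((hu E).2.2 a ha)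
  have hpow : ∀ u ∈ (S : Subgroup G), ∃ k, u ^ p ^ k = 1 := fun u hu => by
    obtain ⟨k, hk⟩ := S.isPGroup' ⟨u, hu⟩
    exact ⟨k, congrArg Subtype.val hk⟩
  by_cases hA : ∃ E ∈ 𝓑, ¬ (S : Subgroup G) ⊓ E ≤ Q₀
  · obtain ⟨E₀, hE₀, hne₀⟩ := hA
    obtain ⟨u, ⟨huS, huE⟩, huQ⟩ := SetLike.not_le_iff_exists.1 hne₀
    obtain ⟨k, hk⟩ := hpow u huS
    refine ⟨u, huS, huQ, fun E => ?_⟩
    by_cases he : (E : Subgroup G) = E₀
    · exact ⟨he ▸ le_normalizer huE, quad_inner hG (hb E E.2) h2 (he ▸ huE) hk⟩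
    · have hc : ∀ a ∈ (E : Subgroup G), ⁅a, u⁆ = 1 := fun a ha => by
        have := commutator_mem_commutator ha huE
        rwa [h.comm_of_ne E.2 hE₀ he, mem_bot] at this
      have h1 : ∀ a ∈ (E : Subgroup G), ∀ K : Subgroup G, ⁅⁅a, u⁆, u⁆ ∈ K := fun a ha K => by
        rw [hc a ha, commutatorElement_one_left]; exact K.one_mem
      refine ⟨centralizer_le_normalizer _ (mem_centralizer_iff.2 fun a ha =>
        commutatorElement_eq_one_iff_mul_comm.1 (hc a ha)),
        fun a ha => h1 a (Pair.core_le _ ha) _, fun a ha => h1 a (wE_le _ ha) _⟩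
  · push Not at hA
    obtain ⟨E₁, hE₁⟩ : 𝓑.Nonempty := by
      by_contra hne
      rw [Set.not_nonempty_iff_eq_empty] at hne
      rw [hX, hne, sSup_empty, bot_sup_eq] at hXS
      exact h.not_normal (hXS ▸ inferInstance)
    have hB : ¬ baumannSubgroupOf p (S : Subgroup G) ≤ Q₀ := fun hle => by
      refine Pair.eq_bot_of_le_core (hb E₁ hE₁) ?_
      rw [← hcore E₁ hE₁]
      refine le_inf le_rfl ?_
      rw [← (hb E₁ hE₁).2.1]
      exact (commutator_mono le_rfl hle).trans (commutator_le_right _ _)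
    obtain ⟨u, huB, huQ⟩ := SetLike.not_le_iff_exists.1 hB
    have huS := Block.baumann_le _ huB
    obtain ⟨k, hk⟩ := hpow u huS
    refine ⟨u, huS, huQ, fun E => ?_⟩
    have huE : u ∈ nrm (E : Subgroup G) := Block.le_normalizer_of_commutator_eq (hb E E.2).2.1 huB
    refine ⟨huE, quad_outer hG (hb E E.2) h2 ?_ huE hk⟩
    have hEX : (E : Subgroup G) ≤ X := le_sSup E.2
    have hXN : X ≤ nrm (E : Subgroup G) := sSup_le fun E' hE' => by
      by_cases he : E' = E
      · exact he ▸ le_normalizer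
      · exact (commutator_eq_bot_iff_le_centralizer.1 (h.comm_of_ne hE' E.2 he)).trans
          (centralizer_le_normalizer _)
    have hSX : IsSylowIn p ((S : Subgroup G) ⊓ X) X :=
      isSylowIn_inf_of_normal (isSylowIn_top S) le_top (by rw [nrm_eq_top])
    have hSE := isSylowIn_inf_of_normal hSX hEX hXN
    rw [inf_assoc, inf_eq_right.2 hEX] at hSE
    intro hdvd
    refine hSE.2.2 (hdvd.trans ?_)
    have hle : (S : Subgroup G) ⊓ (E : Subgroup G) ≤ pCoreOf p (E : Subgroup G) := by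
      rw [← hcore E E.2]; exact le_inf inf_le_right (hA E E.2)
    rw [← relIndex_mul_relIndex _ _ _ hle (Pair.core_le _)]
    exact dvd_mul_left _ _

end Cfsg.Agent.OddFocal
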