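import Cfsg.Agent.OddFocal.Blocks
import Cfsg.Agent.Lib.PComplement.GlaubermanThompson

/-!
For odd `p`, the normalizers of the nontrivial characteristic subgroups of a Sylow `p`-subgroup
control transfer.
-/

set_option autoImplicit false
set_option linter.unusedSectionVars false

open Subgroup Cfsg
open scoped commutatorElement

namespace Cfsg.Agent.OddFocal

open ConjFunctor

universe u

variable {p : ℕ} {G : Type u} [Group G]

theorem map_inf_centralizer' {H : Type u} [Group H] (f : G →* H) (hf : Function.Injective f)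
    (P Z : Subgroup G) :
    (P ⊓ centralizer (Z : Set G)).map f = P.map f ⊓ centralizer ((Z.map f : Subgroup H) : Set H) := by
  ext y
  constructor
  · rintro ⟨x, ⟨hx, hxc⟩, rfl⟩
    refine ⟨mem_map_of_mem f hx, mem_centralizer_iff.2 ?_⟩
    rintro _ ⟨z, hz, rfl⟩
    rw [← map_mul, mem_centralizer_iff.1 hxc z hz, map_mul]
  · rintro ⟨⟨x, hx, rfl⟩, hc⟩
    refine ⟨x, ⟨hx, mem_centralizer_iff.2 fun z hz => hf ?_⟩, rfl⟩
    rw [map_mul, map_mul]
    exact mem_centralizer_iff.1 hc _ ⟨z, hz, rfl⟩

theorem baumann_map_injective [Fact p.Prime] {H : Type u} [Group H] (f : G →* H) (hf : Function.Injective f)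
    (P : Subgroup G) :
    (baumannSubgroupOf p P).map f = baumannSubgroupOf p (P.map f) := by
  rw [baumannSubgroupOf, baumannSubgroupOf, map_inf_centralizer' f hf,
    Thompson.map_omegaOne _ _ hf.injOn, PComplement.centerThompsonOf_map f P hf.injOn]

theorem omegaOneCenter_map_injective {H : Type u} [Group H] (f : G →* H) (hf : Function.Injective f)
    (P : Subgroup G) :
    (omegaOneCenter p P).map f = omegaOneCenter p (P.map f) := by
  rw [omegaOneCenter, omegaOneCenter, Thompson.map_omegaOne _ _ hf.injOn,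
    LocalEven64.map_self_centralizer hf]

/-- A subgroup-valued operation commuting with injective maps gives characteristic subgroups. -/
theorem characteristic_subgroupOf (op : ∀ {H : Type u} [Group H], Subgroup H → Subgroup H)
    (hop : ∀ {H K : Type u} [Group H] [Group K] (f : H →* K), Function.Injective f →
      ∀ P : Subgroup H, (op P).map f = op (P.map f)) (P : Subgroup G) :
    ((op P).subgroupOf P).Characteristic := by
  have h1 : (op P).subgroupOf P = op (⊤ : Subgroup ↥P) := by
    have := hop P.subtype P.subtype_injective ⊤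
    rw [← MonoidHom.range_eq_map, range_subtype] at this
    rw [← this, subgroupOf, comap_map_eq_self_of_injective P.subtype_injective]
  rw [h1, characteristic_iff_map_eq]
  intro φ
  rw [hop φ.toMonoidHom φ.injective, map_top_of_surjective _ φ.surjective]

theorem characteristic_trans {S B C : Subgroup G} (hBS : B ≤ S) (hCB : C ≤ B)
    (hB : (B.subgroupOf S).Characteristic) (hC : (C.subgroupOf B).Characteristic) :
    (C.subgroupOf S).Characteristic := by
  rw [characteristic_iff_le_comap]
  intro φ x hx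
  have key : ∀ (χ : ↥S ≃* ↥S) (b : ↥B), ((χ ⟨b, hBS b.2⟩ : ↥S) : G) ∈ B := fun χ b => by
    have h : (⟨b, hBS b.2⟩ : ↥S) ∈ (B.subgroupOf S).comap χ.toMonoidHom := by
      rw [hB.fixed χ]; exact b.2
    exact h
  let ψ : ↥B ≃* ↥B :=
    { toFun := fun b => ⟨_, key φ b⟩
      invFun := fun b => ⟨_, key φ.symm b⟩
      left_inv := fun b => Subtype.ext (by simp)
      right_inv := fun b => Subtype.ext (by simp)
      map_mul' := fun a b => Subtype.ext (by
        show ((φ ⟨((a * b : ↥B) : G), _⟩ : ↥S) : G) = _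
        rw [show (⟨((a * b : ↥B) : G), hBS (a * b).2⟩ : ↥S) = ⟨a, hBS a.2⟩ * ⟨b, hBS b.2⟩ from rfl,
          map_mul]
        rfl) }
  have h2 : (⟨x, hCB hx⟩ : ↥B) ∈ (C.subgroupOf B).comap ψ.toMonoidHom := by
    rw [hC.fixed ψ]; exact hx
  exact h2

open scoped Classical in
/-- The functor with a prescribed value on the isomorphism class of `S` and improper elsewhere. -/
noncomputable def fixFunctor (S : Type u) [Group S] (K : Subgroup S) :
    ∀ (Q : Type u) [Group Q], Subgroup Q :=
  fun Q _ => if h : Nonempty (S ≃* Q) then K.map h.some.toMonoidHom else ⊤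

theorem isCharPFunctor_fixFunctor {S : Type u} [Group S] {K : Subgroup S} (hK : K ≠ ⊥)
    [hc : K.Characteristic] : IsCharPFunctor.{u} p (fixFunctor S K) := by
  refine ⟨fun Q _ _ _ _ => ?_, fun Q R _ _ _ _ φ => ?_⟩
  · unfold fixFunctor
    split_ifs with h
    · exact fun e => hK ((map_eq_bot_iff_of_injective K h.some.injective).1 e)
    · exact top_ne_bot
  · unfold fixFunctor
    by_cases h : Nonempty (S ≃* Q)
    · have h' : Nonempty (S ≃* R) := ⟨h.some.trans φ⟩
      rw [dif_pos h, dif_pos h', map_map]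
      have hfix := characteristic_iff_map_eq.1 hc ((h.some.trans φ).trans h'.some.symm)
      conv_rhs => rw [← hfix, map_map]
      congr 1
      ext x
      simp
    · have h' : ¬ Nonempty (S ≃* R) := fun ⟨e⟩ => h ⟨e.trans φ.symm⟩
      rw [dif_neg h, dif_neg h', map_top_of_surjective _ φ.surjective]

/-- All isomorphism-invariant functors on `p`-groups. -/
def allFunctors (p : ℕ) : Set (∀ (Q : Type u) [Group Q], Subgroup Q) :=
  {W | IsCharPFunctor.{u} p W}

variable [Finite G] [hp : Fact p.Prime]

/-- A nontrivial characteristic subgroup of a Sylow subgroup which is normal in the group forces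
control of transfer. -/
theorem controls_of_normal_char (S : Sylow p G) (K : Subgroup ↥(S : Subgroup G)) (hK : K ≠ ⊥)
    [hc : K.Characteristic] (hn : (K.map (S : Subgroup G).subtype).Normal) :
    FamilyControlsTransferIn p (indFam (allFunctors p) G) ⊤ := by
  refine familyControlsTransferIn_iff.2 ⟨_, isSylowIn_top S, ?_⟩
  have hmem : inducedFunctor (fixFunctor ↥(S : Subgroup G) K) ∈ indFam (allFunctors p) G :=
    ⟨_, isCharPFunctor_fixFunctor hK, rfl⟩
  have hval : inducedFunctor (fixFunctor ↥(S : Subgroup G) K) (S : Subgroup G) =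
      K.map (S : Subgroup G).subtype := by
    rw [inducedFunctor, fixFunctor, dif_pos ⟨MulEquiv.refl _⟩, characteristic_iff_map_eq.1 hc]
  refine le_trans ?_ (le_sig hmem)
  rw [hval, nrm_eq_top, inf_idem]

/-- A constrained group all of whose proper subgroups and quotients are controlled is controlled. -/
theorem controls_of_minimal (h2 : p ≠ 2)
    (hsub : ∀ M : Subgroup G, M ≠ ⊤ → FamilyControlsTransferIn p (indFam (allFunctors p) ↥M) ⊤)
    (hquot : ∀ (N : Subgroup G) [N.Normal], N ≠ ⊥ →
      FamilyControlsTransferIn p (indFam (allFunctors p) (G ⧸ N)) ⊤) :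
    FamilyControlsTransferIn p (indFam (allFunctors p) G) ⊤ := by
  by_contra hG
  have hne : (allFunctors.{u} p).Nonempty := ⟨fun Q _ => ⊤,
    fun Q _ _ _ _ => top_ne_bot, fun Q R _ _ _ _ φ => map_top_of_surjective _ φ.surjective⟩
  have hS0 : ∀ S : Sylow p G, (S : Subgroup G) ≠ ⊥ := fun S e =>
    hG (familyControlsTransferIn_iff.2 ⟨_, isSylowIn_top S, by rw [e, bot_inf_eq]; exact bot_le⟩)
  have hnc : ∀ (S : Sylow p G) (C : Subgroup G), C ≤ (S : Subgroup G) → C ≠ ⊥ →
      (C.subgroupOf (S : Subgroup G)).Characteristic → ¬ C.Normal := by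
    intro S C hCS hC hc hn
    have e : (C.subgroupOf (S : Subgroup G)).map (S : Subgroup G).subtype = C := by
      rw [subgroupOf_map_subtype, inf_of_le_left hCS]
    refine hG (controls_of_normal_char S _ (fun h => hC ?_) (e.symm ▸ hn))
    rw [← e, h, Subgroup.map_bot]
  have hstr := fun S : Sylow p G =>
    minimal_transfer_structure (fun W hW => hW) hne S hsub hquot hG _ _ rfl rfl
  have hSn : ∀ S : Sylow p G, ¬ (S : Subgroup G).Normal := fun S =>
    hnc S _ le_rfl (hS0 S) (by rw [subgroupOf_self]; infer_instance)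
  obtain ⟨S⟩ : Nonempty (Sylow p G) := inferInstance
  have hmin : IsPMinimal p G := by
    intro S'
    obtain ⟨-, ⟨hMtop, hu⟩, -, -⟩ := hstr S'
    refine ⟨hSn S', _, ⟨⟨hMtop, fun b hb => ?_⟩, hu _ le_rfl fun e => hSn S' (e ▸ inferInstance)⟩,
      fun L hL => ?_⟩
    · by_contra hbt
      exact hb.not_ge (hu b ((hu _ le_rfl fun e => hSn S' (e ▸ inferInstance)).trans hb.le) hbt)
    · by_contra hne'
      exact hMtop (hL.1.2 _ (lt_of_le_of_ne (hu L hL.2 hL.1.1) hne'))
  obtain ⟨hc, -, -, hfail⟩ := hstr S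
  have hB : ((baumannSubgroupOf p (S : Subgroup G)).subgroupOf (S : Subgroup G)).Characteristic :=
    characteristic_subgroupOf (fun {H} _ P => baumannSubgroupOf p P) baumann_map_injective _
  have hZ : ((omegaOneCenter p (S : Subgroup G)).subgroupOf (S : Subgroup G)).Characteristic :=
    characteristic_subgroupOf (fun {H} _ P => omegaOneCenter p P) omegaOneCenter_map_injective _
  have hZne : omegaOneCenter p (S : Subgroup G) ≠ ⊥ := by
    refine Thompson.omegaOne_ne_bot (S.isPGroup'.to_le inf_le_left) fun e => ?_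
    haveI : Nontrivial ↥(S : Subgroup G) := (nontrivial_iff_ne_bot _).2 (hS0 S)
    haveI := S.isPGroup'.center_nontrivial
    obtain ⟨z, hz⟩ := exists_ne (1 : Subgroup.center ↥(S : Subgroup G))
    refine hz (Subtype.ext (Subtype.ext ?_))
    have : ((z : ↥(S : Subgroup G)) : G) ∈
        (S : Subgroup G) ⊓ centralizer ((S : Subgroup G) : Set G) :=
      ⟨(z : ↥(S : Subgroup G)).2, mem_centralizer_iff.2 fun s hs =>
        congrArg Subtype.val (mem_center_iff.1 z.2 ⟨s, hs⟩)⟩
    rw [e, mem_bot] at this
    simpa using this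
  obtain ⟨u, huS, huQ, hu⟩ := exists_quad h2 hmin hc S
    (fun C hCB hC hch => hnc S C (hCB.trans (LAE65.Block.baumann_le _)) hC
      (characteristic_trans (LAE65.Block.baumann_le _) hCB hB hch))
    (hnc S _ (LAE65.Block.omegaOneCenter_le _) hZne hZ)
  obtain ⟨U, V, hUV, hU, hUfail⟩ := hfail u huS huQ
  exact hUfail (hu U V hUV hU)

/-- The focal subgroup is generated by the contributions of the normalizers of the nontrivial
characteristic subgroups. -/
theorem focal_eq_iSup_char (h2 : p ≠ 2) (S : Sylow p G) (hS : (S : Subgroup G) ≠ ⊥) :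
    (S : Subgroup G) ⊓ commutator G =
      ⨆ K : {K : Subgroup ↥(S : Subgroup G) // K ≠ ⊥ ∧ K.Characteristic},
        (S : Subgroup G) ⊓ ⁅nrm (K.1.map (S : Subgroup G).subtype),
          nrm (K.1.map (S : Subgroup G).subtype)⁆ := by
  rw [_root_.commutator_def]
  refine le_antisymm ?_ (iSup_le fun K => inf_le_inf_left _ (commutator_mono le_top le_top))
  have h := transfer_induction (G := G) (p := p) (𝓦 := allFunctors p) (fun W hW => hW)
    (fun H _ _ _ _ hsub hquot => controls_of_minimal h2 hsub hquot) G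
    ⟨⊤, (⊤ : Subgroup G).subtype, fun x => ⟨⟨x, mem_top x⟩, rfl⟩⟩
  refine (FamilyControlsTransferIn.le_sig (indFam_isConjugacyFunctor fun W hW => hW) h
    (isSylowIn_top S)).trans ?_
  refine iSup₂_le fun W hW => ?_
  obtain ⟨W, hW, rfl⟩ := hW
  rw [top_inf_eq]
  haveI : Nontrivial ↥(S : Subgroup G) := (nontrivial_iff_ne_bot _).2 hS
  refine le_iSup_of_le (⟨W ↥(S : Subgroup G), hW.1 _ S.isPGroup' inferInstance, ?_⟩ :
    {K : Subgroup ↥(S : Subgroup G) // K ≠ ⊥ ∧ K.Characteristic}) le_rfl
  exact characteristic_iff_map_eq.2 fun φ => hW.2 _ _ S.isPGroup' φ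

end Cfsg.Agent.OddFocal
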