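import Cfsg.Prelude.Def_BaumannBlocks
import Cfsg.Agent.ConjFunctor.MinimalTransfer
import Mathlib.Algebra.CharP.CharAndCard
import Mathlib.Algebra.CharP.Lemmas

/-!
Quadratic action on sums of sections and on chief factors.
-/

set_option autoImplicit false
set_option linter.unusedSectionVars false

open Subgroup Cfsg
open scoped commutatorElement MatrixGroups

namespace Cfsg.Agent.OddFocal

open ConjFunctor

variable {G : Type*} [Group G] [Finite G]

/-- The elements normalizing `B` whose commutators with the powers of `u` lie in `B`. -/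
abbrev cm (u : G) (B : Subgroup G) : Subgroup G := centMod (zpowers u) B

theorem mem_cm {u a : G} {B : Subgroup G} (ha : a ∈ nrm B) (hu : u ∈ nrm B) (h : ⁅a, u⁆ ∈ B) :
    a ∈ cm u B := by
  refine ⟨ha, fun q hq => ?_⟩
  obtain ⟨k, rfl⟩ : ∃ k : ℕ, u ^ k = q :=
    Submonoid.mem_powers_iff _ _ |>.1 ((isOfFinOrder_of_finite u).mem_powers_iff_mem_zpowers.2 hq)
  induction k with
  | zero => simp [B.one_mem]
  | succ k ih =>
    have e : ⁅u ^ (k + 1), a⁆ = u * ⁅u ^ k, a⁆ * u⁻¹ * ⁅a, u⁆⁻¹ := by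
      simp only [commutatorElement_def, pow_succ']; group
    rw [e]
    exact B.mul_mem (conj_mem_of_nrm hu (ih (Subgroup.pow_mem _ (mem_zpowers u) k))) (B.inv_mem h)

theorem commutator_le_of_le_cm {u : G} {A B : Subgroup G} (h : A ≤ cm u B) :
    ⁅A, zpowers u⁆ ≤ B := by
  rw [commutator_le]
  intro a ha q hq
  rw [← commutatorElement_inv]
  exact B.inv_mem ((h ha).2 q hq)

theorem conj_mem_cm {u a : G} {B : Subgroup G} (hu : u ∈ nrm B) (ha : a ∈ cm u B) :
    u * a * u⁻¹ ∈ cm u B := by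
  refine ⟨mul_mem (mul_mem hu ha.1) (inv_mem hu), fun q hq => ?_⟩
  obtain ⟨k, rfl⟩ := mem_zpowers_iff.1 hq
  have e : ⁅u ^ k, u * a * u⁻¹⁆ = u * ⁅u ^ k, a⁆ * u⁻¹ := by
    rw [commutatorElement_def, commutatorElement_def]; group
  rw [e]
  exact conj_mem_of_nrm hu (ha.2 _ hq)

theorem le_nrm_of_commutator_le {P X : Subgroup G} (hXP : X ≤ P) (h : ⁅P, P⁆ ≤ X) :
    P ≤ nrm X := fun g hg => mem_nrm_of_forall fun x hx => by
  have e : g * x * g⁻¹ = ⁅g, x⁆ * x := by rw [commutatorElement_def]; group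
  rw [e]
  exact X.mul_mem (h (commutator_mem_commutator hg (hXP hx))) hx

/-- If `u` is quadratic on each of a family of subgroups generating `P`, where `P / C` is abelian,
then it is quadratic on `P / C`. -/
theorem quad_iSup {ι : Sort*} (A : ι → Subgroup G) {P C : Subgroup G} (hP : P = ⨆ i, A i)
    (hCP : C ≤ P) (hab : ⁅P, P⁆ ≤ C) {u : G} (huC : u ∈ nrm C) (huA : ∀ i, u ∈ nrm (A i))
    (h : ∀ i, ∀ a ∈ A i, ⁅⁅a, u⁆, u⁆ ∈ C) :
    ⁅⁅P, zpowers u⁆, zpowers u⁆ ≤ C := by
  have huP : u ∈ nrm P := mem_nrm_of_forall fun x hx => by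
    have h1 : (⨆ i, A i).map (MulAut.conj u).toMonoidHom ≤ P := by
      rw [Subgroup.map_iSup]
      exact iSup_le fun i => ((mem_nrm_iff_cnj.1 (huA i)).le).trans (hP ▸ le_iSup A i)
    exact h1 ⟨x, hP ▸ hx, rfl⟩
  have hPC := le_nrm_of_commutator_le hCP hab
  set C' := P ⊓ cm u C with hC'
  have hCC' : C ≤ C' := fun c hc => ⟨hCP hc, mem_cm (le_normalizer hc) huC (by
    have e : ⁅c, u⁆ = c * (u * c⁻¹ * u⁻¹) := by rw [commutatorElement_def]; group
    rw [e]; exact C.mul_mem hc (conj_mem_of_nrm huC (C.inv_mem hc)))⟩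
  have huC' : u ∈ nrm C' := mem_nrm_of_forall fun x hx =>
    ⟨conj_mem_of_nrm huP hx.1, conj_mem_cm huC hx.2⟩
  have hPC' : P ≤ nrm C' := le_nrm_of_commutator_le inf_le_left (hab.trans hCC')
  have hcP : ∀ a ∈ P, ⁅a, u⁆ ∈ P := fun a ha => by
    have e : ⁅a, u⁆ = a * (u * a⁻¹ * u⁻¹) := by rw [commutatorElement_def]; group
    rw [e]; exact P.mul_mem ha (conj_mem_of_nrm huP (P.inv_mem ha))
  have hle : P ≤ cm u C' := by
    conv_lhs => rw [hP]
    refine iSup_le fun i a ha => ?_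
    have haP : a ∈ P := hP ▸ le_iSup A i ha
    exact mem_cm (hPC' haP) huC' ⟨hcP a haP, mem_cm (hPC (hcP a haP)) huC (h i a ha)⟩
  exact (commutator_mono (commutator_le_of_le_cm hle) le_rfl).trans
    (commutator_le_of_le_cm inf_le_right)

/-! ### Two by two matrices -/

theorem two_sq_eq_smul {F : Type*} [Field F] (N : Matrix (Fin 2) (Fin 2) F) (h : N.det = 0) :
    N * N = N.trace • N := by
  rw [Matrix.det_fin_two] at h
  ext i j
  fin_cases i <;> fin_cases j <;>
    simp [Matrix.mul_apply, Fin.sum_univ_two, Matrix.trace_fin_two] <;> first | ring1 | linear_combination h | linear_combination -h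

theorem sq_zero_of_nilpotent {F : Type*} [Field F] (N : Matrix (Fin 2) (Fin 2) F) {m : ℕ}
    (h : N ^ m = 0) : N * N = 0 := by
  have hd : N.det = 0 := by
    have h1 := congrArg Matrix.det h
    rw [Matrix.det_pow, Matrix.det_zero] at h1
    exact eq_zero_of_pow_eq_zero h1
  have h2 := two_sq_eq_smul N hd
  have hk : ∀ k : ℕ, N ^ (k + 1) = N.trace ^ k • N := by
    intro k
    induction k with
    | zero => simp
    | succ k ih => rw [pow_succ, ih, smul_mul_assoc, h2, smul_smul, ← pow_succ]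
  have h3 : N.trace ^ m • N = 0 := by rw [← hk, pow_succ, h, zero_mul]
  rcases smul_eq_zero.1 h3 with h4 | h4
  · rw [h2, eq_zero_of_pow_eq_zero h4, zero_smul]
  · rw [h4, zero_mul]

/-- A `p`-element of `E` acts quadratically on a natural section in characteristic `p`. -/
theorem quad_sl2 {p : ℕ} [hp : Fact p.Prime] {F : Type*} [Field F] [Fintype F] {n : ℕ}
    (hF : Fintype.card F = p ^ n) {R : Subgroup SL(2, F)} {E U U₀ : Subgroup G}
    (hact : ActsAsSL2OnSection F R E U U₀) {u : G} (hu : u ∈ E) {k : ℕ} (huk : u ^ p ^ k = 1)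
    {a : G} (ha : a ∈ U) : ⁅⁅a, u⁆, u⁆ ∈ U₀ := by
  classical
  obtain ⟨hn, -, ρ, ψ, -, -, hker, heq⟩ := hact
  haveI : CharP F p := charP_of_card_eq_prime_pow hF
  set M : Matrix (Fin 2) (Fin 2) F := ((ρ ⟨u, hu⟩ : SL(2, F)) : Matrix (Fin 2) (Fin 2) F) with hM
  have hMk : M ^ p ^ k = 1 := by
    have h1 : (⟨u, hu⟩ : E) ^ p ^ k = 1 := Subtype.ext (by simpa using huk)
    have h2 := congrArg (fun z : SL(2, F) => (z : Matrix (Fin 2) (Fin 2) F))
      (congrArg ρ h1)
    simp only [map_pow, map_one, Matrix.SpecialLinearGroup.coe_pow,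
      Matrix.SpecialLinearGroup.coe_one] at h2
    exact h2
  have hN : (M - 1) * (M - 1) = 0 := by
    refine sq_zero_of_nilpotent _ (m := p ^ k) ?_
    rw [sub_pow_char_pow_of_commute (p := p) _ (Commute.one_right M), hMk, one_pow, sub_self]
  have hc : ∀ x : U, ∃ y : U, (y : G) = ⁅(x : G), u⁆ ∧
      Multiplicative.toAdd (ψ y) = -((M - 1).mulVec (Multiplicative.toAdd (ψ x))) := by
    intro x
    obtain ⟨w, hw, hw'⟩ := heq ⟨u, hu⟩ x⁻¹
    refine ⟨x * w, ?_, ?_⟩
    · rw [Subgroup.coe_mul, hw, Subgroup.coe_inv, commutatorElement_def]; group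
    · rw [map_mul, toAdd_mul, hw', map_inv, toAdd_inv, Matrix.mulVec_neg, Matrix.sub_mulVec,
        Matrix.one_mulVec]
      abel
  obtain ⟨y, hy, hy'⟩ := hc ⟨a, ha⟩
  obtain ⟨z, hz, hz'⟩ := hc y
  have hz1 : ψ z = 1 := by
    apply Multiplicative.toAdd.injective
    rw [hz', hy', Matrix.mulVec_neg, neg_neg, Matrix.mulVec_mulVec, hN, Matrix.zero_mulVec,
      toAdd_one]
  have := (hker z).1 hz1
  rwa [hz, hy] at this

/-! ### Chief factors -/

/-- If `U` is covered by `U ∩ A` modulo `V`, and `B` is small there, then the iterated commutators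
pass to `V`. -/
theorem iterCommutator_le_of_cover {U V A B : Subgroup G} [hU : U.Normal] [hV : V.Normal]
    (hUA : U ≤ (U ⊓ A) ⊔ V) (hB : U ⊓ B ≤ V) {K : Subgroup G} {n : ℕ}
    (h : iterCommutator A K n ≤ B) : iterCommutator U K n ≤ V := by
  have hKU : K ≤ nrm U := by rw [nrm_eq_top]; exact le_top
  have h1 : iterCommutator (U ⊓ A) K n ≤ V :=
    (le_inf ((iterCommutator_mono inf_le_left le_rfl n).trans (iterCommutator_le_self hKU n))
      ((iterCommutator_mono inf_le_right le_rfl n).trans h)).trans hB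
  rw [← QuotientGroup.ker_mk' V, ← Subgroup.map_eq_bot_iff] at h1 ⊢
  rw [map_iterCommutator] at h1 ⊢
  rw [eq_bot_iff] at h1 ⊢
  refine le_trans (iterCommutator_mono ?_ le_rfl n) h1
  refine (Subgroup.map_mono hUA).trans ?_
  rw [Subgroup.map_sup, (Subgroup.map_eq_bot_iff V).2 (QuotientGroup.ker_mk' V).ge, sup_bot_eq]

theorem le_cover {U V A : Subgroup G} (h : IsChiefFactor U V) [A.Normal] (hne : ¬ U ⊓ A ≤ V) :
    U ≤ (U ⊓ A) ⊔ V := by
  haveI := h.2.1
  haveI := h.2.2.1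
  rcases h.2.2.2 ((U ⊓ A) ⊔ V) inferInstance le_sup_right (sup_le inf_le_left h.1.le) with e | e
  · exact absurd (le_sup_left.trans e.le) hne
  · exact e.ge

/-- The criterion for an element to be quadratic on all chief factors below a normal subgroup `Q₀`,
given a series `Zs ≤ Ws ≤ Qs ≤ Q₀` and a normal subgroup `X` supplemented by a `p`-group. -/
theorem chief_quad {p : ℕ} [Fact p.Prime] {P X Q₀ Qs Ws Zs : Subgroup G} [X.Normal]
    [Qs.Normal] [Ws.Normal] [Zs.Normal] (hP : IsPGroup p P) (hXP : X ⊔ P = ⊤)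
    (hQ₀ : IsPGroup p Q₀) (hQX : ⁅Q₀, X⁆ ≤ Qs) (hZX : ⁅Zs, X⁆ = ⊥) {u : G}
    (hQW : iterCommutator Qs (zpowers u) 2 ≤ Ws) (hWZ : iterCommutator Ws (zpowers u) 2 ≤ Zs)
    {U V : Subgroup G} (hUV : IsChiefFactor U V) (hU : U ≤ Q₀) {n : ℕ} (hn : 2 ≤ n) :
    iterCommutator U (zpowers u) n ≤ V := by
  haveI hUn := hUV.2.1
  haveI hVn := hUV.2.2.1
  refine (iterCommutator_antitone (by rw [nrm_eq_top]; exact le_top) hn).trans ?_
  have hUp : IsPGroup p U := hQ₀.to_le hU
  have triv : ⁅U, X⁆ ≤ V → iterCommutator U (zpowers u) 2 ≤ V := by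
    intro h
    have h1 : ⁅U, (⊤ : Subgroup G)⁆ ≤ V :=
      ChiefFactor.commutator_le_of_le_sup hUV hUp hP le_top h hXP.ge
    exact (iterCommutator_antitone (by rw [nrm_eq_top]; exact le_top) one_le_two).trans
      ((commutator_mono le_rfl le_top).trans h1)
  by_cases h1 : U ⊓ Qs ≤ V
  · exact triv (le_trans (le_inf (commutator_le_left U X) ((commutator_mono hU le_rfl).trans hQX)) h1)
  by_cases h2 : U ⊓ Zs ≤ V
  swap
  · refine triv ?_
    exact iterCommutator_le_of_cover (A := Zs) (B := ⊥) (n := 1) (le_cover hUV h2) (by simp)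
      (le_of_eq hZX)
  by_cases h3 : U ⊓ Ws ≤ V
  · exact iterCommutator_le_of_cover (le_cover hUV h1) h3 hQW
  · exact iterCommutator_le_of_cover (le_cover hUV h3) h2 hWZ

end Cfsg.Agent.OddFocal
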